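import Mathlib

set_option autoImplicit false

namespace Cfsg.Agent.H8

/-- Maximality of `H` in `K`, spelled out with intermediate subgroups of the ambient group. -/
theorem isCoatom_subgroupOf_iff {G : Type*} [Group G] {H K : Subgroup G} (h : H ≤ K) :
    IsCoatom (H.subgroupOf K) ↔ H ≠ K ∧ ∀ L : Subgroup G, H ≤ L → L ≤ K → L = H ∨ L = K := by
  constructor
  · intro hc
    refine ⟨?_, ?_⟩
    · rintro rfl
      exact hc.1 (Subgroup.subgroupOf_self _)
    · intro L hHL hLK
      by_cases hL : L = H
      · exact Or.inl hL
      · right
        have h1 : H.subgroupOf K < L.subgroupOf K := by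
          refine lt_of_le_of_ne (Subgroup.comap_mono hHL) ?_
          intro he
          apply hL
          have := congrArg (Subgroup.map K.subtype) he
          rw [Subgroup.map_subgroupOf_eq_of_le h, Subgroup.map_subgroupOf_eq_of_le hLK] at this
          exact this.symm
        have h2 := hc.2 _ h1
        rw [Subgroup.subgroupOf_eq_top] at h2
        exact le_antisymm hLK h2
  · rintro ⟨hne, hmax⟩
    refine ⟨?_, ?_⟩
    · intro htop
      rw [Subgroup.subgroupOf_eq_top] at htop
      exact hne (le_antisymm h htop)
    · intro L hL
      have h1 : H ≤ L.map K.subtype := by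
        rw [← Subgroup.map_subgroupOf_eq_of_le h]
        exact Subgroup.map_mono hL.le
      rcases hmax _ h1 (Subgroup.map_subtype_le L) with h2 | h2
      · exfalso
        apply hL.ne
        rw [← h2]
        exact Subgroup.comap_map_eq_self_of_injective K.subtype_injective L
      · rw [eq_top_iff]
        intro x _
        have : (x : G) ∈ L.map K.subtype := by rw [h2]; exact x.2
        obtain ⟨y, hy, hyx⟩ := this
        have : y = x := Subtype.ext hyx
        exact this ▸ hy

end Cfsg.Agent.H8
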