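import Cfsg.Agent.H8.M3N
import Cfsg.Agent.H3.PglBasic

/-! Identification of the exceptional groups. -/

set_option autoImplicit false
set_option linter.unusedSectionVars false

namespace Cfsg.Agent.H8.M3
open Matrix Equiv Subgroup
open scoped MatrixGroups

universe u
variable {K : Type*} [Field K] {G : Type u} [Group G]
variable {ρ : G →* PGL(3, K)} {x y z t u r w : G} {κ μ ω α β : K}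

theorem Dg.congr' {d : Fin 3 → K} {A : Mt K} (h : Dg ρ x d) (e : A = diagonal d) : Rep ρ x A := e ▸ h

/-- a submonoid of a finite group -/
def toSub {X : Type*} [Group X] [Finite X] (S : Submonoid X) : Subgroup X where
  toSubmonoid := S
  inv_mem' := fun {x} hx => by
    rw [← eq_inv_of_mul_eq_one_left (show x ^ (orderOf x - 1) * x = 1 by
      rw [← pow_succ, Nat.sub_add_cancel (orderOf_pos x), pow_orderOf_eq_one])]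
    exact S.pow_mem hx _

structure RelSys (G : Type*) [Group G] (ι : Type) where
  R : G → ι → ι → Prop
  one : ∀ i, R 1 i i
  mul : ∀ {x y i j k}, R x i j → R y j k → R (y * x) i k

def gam {L : Type*} [Group L] [Finite G] [Finite L] {ι : Type} (A : RelSys G ι) (B : RelSys L ι) :
    Subgroup (G × L) := toSub
  { carrier := {x | ∀ i, ∃ j, A.R x.1 i j ∧ B.R x.2 i j}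
    mul_mem' := fun ha hb i => by
      obtain ⟨j, a, b⟩ := hb i
      obtain ⟨k, c, d⟩ := ha j
      exact ⟨k, A.mul a c, B.mul b d⟩
    one_mem' := fun i => ⟨i, A.one i, B.one i⟩ }

theorem iso_of_gam {L : Type*} [Group L] [Finite G] [Finite L] {ι : Type} (A : RelSys G ι) (B : RelSys L ι)
    (h1 : (gam A B).map (MonoidHom.fst G L) = ⊤) (h2 : ∀ x, (∀ i, ∃ j, A.R x i j ∧ B.R 1 i j) → x = 1)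
    (hc : Nat.card L ≤ Nat.card G) : Nonempty (G ≃* L) := by
  have s1 : Function.Surjective ((MonoidHom.fst G L).comp (gam A B).subtype) := fun x => by
    obtain ⟨y, a, b⟩ := h1.ge (mem_top x)
    exact ⟨⟨y, a⟩, b⟩
  have s2 : Function.Injective ((MonoidHom.snd G L).comp (gam A B).subtype) :=
    (injective_iff_map_eq_one _).2 fun ⟨⟨x, π⟩, h⟩ e => by
      obtain rfl : π = 1 := e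
      obtain rfl := h2 x h
      rfl
  have c1 := Nat.card_le_card_of_surjective _ s1
  have c2 := Nat.card_le_card_of_injective _ s2
  exact ⟨(MulEquiv.ofBijective _ (s1.bijective_of_nat_card_le (by omega))).symm.trans
    (MulEquiv.ofBijective _ (s2.bijective_of_nat_card_le (by omega)))⟩

/-- the action on points -/
def RG (ρ : G →* PGL(3, K)) {ι : Type} (v : ι → Fin 3 → K) : RelSys G ι where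
  R x i j := ∀ A, Rep ρ x A → ∃ c : K, A *ᵥ v i = c • v j
  one i A h := by
    obtain ⟨c, -, rfl⟩ := h.of_eq_one rfl
    exact ⟨c, by simp [smul_mulVec]⟩
  mul {x y i j k} h h' C hC := by
    obtain ⟨A, hA⟩ := exists_rep ρ x
    obtain ⟨B, hB⟩ := exists_rep ρ y
    obtain ⟨c, -, rfl⟩ := (hB.mul hA).uniq hC
    obtain ⟨a, ha⟩ := h A hA
    obtain ⟨b, hb⟩ := h' B hB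
    exact ⟨c * (a * b), by rw [smul_mulVec, ← mulVec_mulVec, ha, mulVec_smul, hb, smul_smul, smul_smul,
      mul_assoc]⟩

theorem RG.of {ι : Type} {v : ι → Fin 3 → K} {A : Mt K} (h : Rep ρ x A) {i j : ι}
    (e : ∃ c : K, A *ᵥ v i = c • v j) : (RG ρ v).R x i j := fun B hB => by
  obtain ⟨c, -, rfl⟩ := h.uniq hB
  obtain ⟨a, ha⟩ := e
  exact ⟨c * a, by rw [smul_mulVec, ha, smul_smul]⟩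

theorem RG.eq_one (hρ : Function.Injective ρ) {ι : Type} {v : ι → Fin 3 → K} {i0 i1 i2 i3 : ι} {a : K}
    (h0 : v i0 = ![1, 0, 0]) (h1 : v i1 = ![0, 1, 0]) (h2 : v i2 = ![0, 0, 1]) (h3 : v i3 = ![a, 1, 1])
    (ha : a ≠ 0) (e0 : (RG ρ v).R x i0 i0) (e1 : (RG ρ v).R x i1 i1) (e2 : (RG ρ v).R x i2 i2)
    (e3 : (RG ρ v).R x i3 i3) : x = 1 := by
  obtain ⟨A, hA⟩ := exists_rep ρ x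
  obtain ⟨c0, k0⟩ := e0 A hA; obtain ⟨c1, k1⟩ := e1 A hA; obtain ⟨c2, k2⟩ := e2 A hA
  obtain ⟨c3, k3⟩ := e3 A hA
  simp [h0, h1, h2, h3, funext_iff, Fin.forall_fin_succ, mulVec, dotProduct, Fin.sum_univ_three] at k0 k1 k2 k3
  refine (hA.congr (B := c3 • 1) ?_).eq_one hρ
  ext i j; fin_cases i <;> fin_cases j <;> simp <;> grind

/-- coded ring elements -/
structure Z4 where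
  (a b c d : ℤ)

structure Par where
  (p q p' q' n : ℤ)

def Z4.add (x y : Z4) : Z4 := ⟨x.a + y.a, x.b + y.b, x.c + y.c, x.d + y.d⟩
def Z4.sub (x y : Z4) : Z4 := ⟨x.a - y.a, x.b - y.b, x.c - y.c, x.d - y.d⟩
def Par.mul (P : Par) (x y : Z4) : Z4 :=
  let e := x.c * y.c + P.q * (x.d * y.d)
  let f := x.c * y.d + x.d * y.c + P.p * (x.d * y.d)
  ⟨x.a * y.a + P.q * (x.b * y.b) + P.q' * e, x.a * y.b + x.b * y.a + P.p * (x.b * y.b) + P.q' * f,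
   x.a * y.c + P.q * (x.b * y.d) + (x.c * y.a + P.q * (x.d * y.b)) + P.p' * e,
   x.a * y.d + x.b * y.c + P.p * (x.b * y.d) + (x.c * y.b + x.d * y.a + P.p * (x.d * y.b)) + P.p' * f⟩
def Par.isZ (P : Par) (x : Z4) : Bool :=
  x.a % P.n == 0 && x.b % P.n == 0 && x.c % P.n == 0 && x.d % P.n == 0
def Z4.isOne (x : Z4) : Bool := x.a == 1 && x.b == 0 && x.c == 0 && x.d == 0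
def Z4.ev (α β : K) (x : Z4) : K := x.a + x.b * α + (x.c + x.d * α) * β

structure Par.Ok (P : Par) (α β : K) : Prop where
  h1 : α * α = P.p * α + P.q
  h2 : β * β = P.p' * β + P.q'
  h3 : (P.n : K) = 0

variable {P : Par}

theorem ev_add (x y : Z4) : (x.add y).ev α β = x.ev α β + y.ev α β := by simp [Z4.add, Z4.ev]; ring
theorem ev_sub (x y : Z4) : (x.sub y).ev α β = x.ev α β - y.ev α β := by simp [Z4.sub, Z4.ev]; ring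
theorem ev_mul (h : P.Ok α β) (x y : Z4) : (P.mul x y).ev α β = x.ev α β * y.ev α β := by
  simp only [Par.mul, Z4.ev]; push_cast
  linear_combination (-(x.b * y.b + (x.b * y.d + x.d * y.b) * β + x.d * y.d * (P.p' * β + P.q'))) * h.h1 -
    (x.c + x.d * α) * (y.c + y.d * α) * h.h2
theorem ev_isZ (h : P.Ok α β) {x : Z4} (e : P.isZ x = true) : x.ev α β = 0 := by
  have k : ∀ a : ℤ, a % P.n = 0 → (a : K) = 0 := fun a e => by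
    obtain ⟨c, rfl⟩ := Int.dvd_of_emod_eq_zero e
    simp [h.h3]
  simp only [Par.isZ, Bool.and_eq_true, beq_iff_eq] at e
  simp [Z4.ev, k _ e.1.1.1, k _ e.1.1.2, k _ e.1.2, k _ e.2]
theorem ev_isOne {x : Z4} (e : x.isOne = true) : x.ev α β = 1 := by
  simp only [Z4.isOne, Bool.and_eq_true, beq_iff_eq] at e
  simp [Z4.ev, e]

abbrev V3 := Z4 × Z4 × Z4
abbrev M9 := V3 × V3 × V3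
def V3.ev (α β : K) (v : V3) : Fin 3 → K := ![v.1.ev α β, v.2.1.ev α β, v.2.2.ev α β]
def M9.ev (α β : K) (M : M9) : Mt K := of ![M.1.ev α β, M.2.1.ev α β, M.2.2.ev α β]
def Par.dot (P : Par) (u v : V3) : Z4 := ((P.mul u.1 v.1).add (P.mul u.2.1 v.2.1)).add (P.mul u.2.2 v.2.2)
def Par.mv (P : Par) (M : M9) (v : V3) : V3 := (P.dot M.1 v, P.dot M.2.1 v, P.dot M.2.2 v)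
def Par.cr (P : Par) (a b c d : Z4) : Z4 := (P.mul a d).sub (P.mul b c)
def Par.par (P : Par) (u w : V3) : Bool := P.isZ (P.cr u.1 u.2.1 w.1 w.2.1) && P.isZ (P.cr u.1 u.2.2 w.1 w.2.2) &&
  P.isZ (P.cr u.2.1 u.2.2 w.2.1 w.2.2) && (w.1.isOne || w.2.1.isOne || w.2.2.isOne)

theorem ev_mv (h : P.Ok α β) (M : M9) (v : V3) : M.ev α β *ᵥ v.ev α β = (P.mv M v).ev α β := by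
  ext i; fin_cases i <;>
    simp [M9.ev, V3.ev, Par.mv, Par.dot, ev_add, ev_mul h, mulVec, dotProduct, Fin.sum_univ_three]

theorem par_sound (h : P.Ok α β) {u w : V3} (e : P.par u w = true) : ∃ c : K, u.ev α β = c • w.ev α β := by
  simp only [Par.par, Bool.and_eq_true, Bool.or_eq_true] at e
  obtain ⟨⟨⟨a, b⟩, c⟩, d⟩ := e
  have a := ev_isZ h a; have b := ev_isZ h b; have c := ev_isZ h c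
  simp only [Par.cr, ev_sub, ev_mul h] at a b c
  rcases d with (d | d) | d <;> have d := ev_isOne (α := α) (β := β) d
  · exact ⟨u.1.ev α β, by ext i; fin_cases i <;> simp [V3.ev] <;> grind⟩
  · exact ⟨u.2.1.ev α β, by ext i; fin_cases i <;> simp [V3.ev] <;> grind⟩
  · exact ⟨u.2.2.ev α β, by ext i; fin_cases i <;> simp [V3.ev] <;> grind⟩

def z0 : Z4 := ⟨0, 0, 0, 0⟩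
def z1 : Z4 := ⟨1, 0, 0, 0⟩
def zm : Z4 := ⟨-1, 0, 0, 0⟩
def gens (k m : Z4) : List M9 := [((z1, z0, z0), (z0, zm, z0), (z0, z0, zm)),
  ((z1, z0, z0), (z0, z1, z0), (z0, z0, zm)), ((z1, z0, z0), (z0, z0, z1), (z0, z1, z0)),
  ((z0, z1, z0), (z1, z0, z0), (z0, z0, z1)), ((z0, k, k), (m, z1, zm), (m, zm, z1)),
  ((z1, z0, z0), (z0, ⟨0, 0, 1, 0⟩, z0), (z0, z0, ⟨-1, 0, -1, 0⟩))]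
def gn (k m : Z4) (a : ℕ) : M9 := (gens k m).getD a ((z0, z0, z0), (z0, z0, z0), (z0, z0, z0))
def vc (V : List V3) {n : ℕ} (i : Fin n) : V3 := V.getD i (z0, z0, z0)
def tb (J : List (List ℕ)) (n : ℕ) [NeZero n] (a : ℕ) (i : Fin n) : Fin n := Fin.ofNat n ((J.getD a []).getD i 0)
/-- the tables are correct -/
def Tab (P : Par) (k m : Z4) (V : List V3) (J : List (List ℕ)) (n : ℕ) [NeZero n] (N : ℕ) : Prop :=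
  ∀ a : Fin N, ∀ i : Fin n, P.par (P.mv (gn k m a) (vc V i)) (vc V (tb J n a i)) = true

theorem gn_ev (k m : Z4) : (gn k m 0).ev α β = diagonal ![1, -1, -1] ∧ (gn k m 1).ev α β = diagonal ![1, 1, -1] ∧
    (gn k m 2).ev α β = Pw ∧ (gn k m 3).ev α β = Py ∧ (gn k m 4).ev α β = Rk (k.ev α β) (m.ev α β) ∧
    (gn k m 5).ev α β = diagonal ![1, β, -1 - β] := by
  have a : z0.ev α β = 0 := by simp [z0, Z4.ev]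
  have b : z1.ev α β = 1 := by simp [z1, Z4.ev]
  have c : zm.ev α β = -1 := by simp [zm, Z4.ev]
  refine ⟨?_, ?_, ?_, ?_, ?_, ?_⟩ <;> ext i j <;> fin_cases i <;> fin_cases j <;>
    simp [gn, gens, M9.ev, V3.ev, a, b, c, Pw, Py, Rk] <;> simp [Z4.ev, sub_eq_add_neg]

theorem Tab.pres {k m : Z4} {V : List V3} {J : List (List ℕ)} {n N : ℕ} [NeZero n] (h : Tab P k m V J n N)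
    (hP : P.Ok α β) (a : Fin N) (i : Fin n) :
    ∃ c : K, (gn k m a).ev α β *ᵥ (vc V i).ev α β = c • (vc V (tb J n a i)).ev α β := by
  rw [ev_mv hP]; exact par_sound hP (h a i)

theorem iso_of_tab [Finite G] {L : Type*} [Group L] [Finite L] {k m : Z4} {V : List V3} {J : List (List ℕ)}
    {n N : ℕ} [NeZero n] (h : Tab P k m V J n N) (hP : P.Ok α β) (hρ : Function.Injective ρ)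
    (B : RelSys L (Fin n)) (g : Fin N → G) (π : Fin N → L) (hg : ∀ a, Rep ρ (g a) ((gn k m a).ev α β))
    (hπ : ∀ a i, B.R (π a) i (tb J n a i)) (gen : ∀ H : Subgroup G, (∀ a, g a ∈ H) → H = ⊤)
    (i0 i1 i2 i3 : Fin n) {a : Z4} (h0 : vc V i0 = (z1, z0, z0)) (h1 : vc V i1 = (z0, z1, z0))
    (h2 : vc V i2 = (z0, z0, z1)) (h3 : vc V i3 = (a, z1, z1)) (ha : a.ev α β ≠ 0)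
    (hB : ∀ i ∈ [i0, i1, i2, i3], ∀ j, B.R 1 i j → i = j)
    (hc : Nat.card L ≤ Nat.card G) : Nonempty (G ≃* L) := by
  refine iso_of_gam (RG ρ fun i => (vc V i).ev α β) B (gen _ fun a =>
    ⟨(g a, π a), fun i => ⟨_, RG.of (hg a) (h.pres hP a i), hπ a i⟩, rfl⟩) (fun x hx => ?_) hc
  have k : ∀ i ∈ [i0, i1, i2, i3], (RG ρ fun i => (vc V i).ev α β).R x i i := fun i hi => by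
    obtain ⟨j, a, b⟩ := hx i
    rwa [← hB i hi j b] at a
  refine RG.eq_one hρ (a := a.ev α β) ?_ ?_ ?_ ?_ ha (k i0 (by simp)) (k i1 (by simp)) (k i2 (by simp))
    (k i3 (by simp)) <;> simp [h0, h1, h2, h3, V3.ev, z0, z1, Z4.ev]

def vA6 : List V3 := [
    (⟨1,0,0,0⟩,⟨0,0,0,0⟩,⟨0,0,0,0⟩), (⟨0,0,0,0⟩,⟨1,0,0,0⟩,⟨0,0,0,0⟩), (⟨0,0,0,0⟩,⟨0,0,0,0⟩,⟨1,0,0,0⟩),
    (⟨0,-1,-1,0⟩,⟨1,0,0,0⟩,⟨1,0,0,0⟩), (⟨0,0,0,0⟩,⟨1,0,0,0⟩,⟨1,0,0,0⟩),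
    (⟨0,-1,-1,0⟩,⟨-1,0,0,0⟩,⟨1,0,0,0⟩), (⟨0,1,1,0⟩,⟨-1,0,0,0⟩,⟨1,0,0,0⟩),
    (⟨0,1,1,0⟩,⟨1,0,0,0⟩,⟨1,0,0,0⟩), (⟨1,0,0,0⟩,⟨0,-1,-1,0⟩,⟨1,0,0,0⟩),
    (⟨0,0,0,0⟩,⟨-1,0,0,0⟩,⟨1,0,0,0⟩), (⟨1,0,0,0⟩,⟨0,0,0,0⟩,⟨1,0,0,0⟩),
    (⟨-1,0,0,0⟩,⟨0,-1,-1,0⟩,⟨1,0,0,0⟩), (⟨-1,0,0,0⟩,⟨0,1,1,0⟩,⟨1,0,0,0⟩),
    (⟨1,0,0,0⟩,⟨0,1,1,0⟩,⟨1,0,0,0⟩), (⟨1,0,0,0⟩,⟨1,0,0,0⟩,⟨0,-1,-1,0⟩),
    (⟨0,0,-2,1⟩,⟨1,-1,1,-1⟩,⟨1,0,0,0⟩), (⟨-1,0,0,0⟩,⟨0,0,0,0⟩,⟨1,0,0,0⟩),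
    (⟨1,0,0,0⟩,⟨1,0,0,0⟩,⟨0,0,0,0⟩), (⟨-1,1,-1,1⟩,⟨0,0,-2,1⟩,⟨1,0,0,0⟩),
    (⟨-1,0,0,0⟩,⟨1,0,0,0⟩,⟨0,-1,-1,0⟩), (⟨1,-1,1,-1⟩,⟨0,0,0,1⟩,⟨1,0,0,0⟩),
    (⟨-1,0,0,0⟩,⟨1,0,0,0⟩,⟨0,1,1,0⟩), (⟨-1,-1,-1,-1⟩,⟨0,0,0,-1⟩,⟨1,0,0,0⟩),
    (⟨1,0,0,0⟩,⟨1,0,0,0⟩,⟨0,1,1,0⟩), (⟨0,0,0,1⟩,⟨-1,1,-1,1⟩,⟨1,0,0,0⟩),
    (⟨-1,1,-1,1⟩,⟨0,0,0,1⟩,⟨1,0,0,0⟩), (⟨0,0,2,-1⟩,⟨1,-1,1,-1⟩,⟨1,0,0,0⟩),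
    (⟨0,0,2,-1⟩,⟨-1,1,-1,1⟩,⟨1,0,0,0⟩), (⟨1,-1,1,-1⟩,⟨0,0,-2,1⟩,⟨1,0,0,0⟩),
    (⟨-1,0,0,0⟩,⟨1,0,0,0⟩,⟨0,0,0,0⟩), (⟨0,0,0,-1⟩,⟨1,1,1,1⟩,⟨1,0,0,0⟩),
    (⟨0,0,0,1⟩,⟨1,1,1,1⟩,⟨1,0,0,0⟩), (⟨1,-1,1,-1⟩,⟨0,0,2,-1⟩,⟨1,0,0,0⟩),
    (⟨0,0,-2,1⟩,⟨-1,1,-1,1⟩,⟨1,0,0,0⟩), (⟨-1,1,-1,1⟩,⟨0,0,0,-1⟩,⟨1,0,0,0⟩),
    (⟨0,0,0,1⟩,⟨1,-1,1,-1⟩,⟨1,0,0,0⟩), (⟨0,0,0,-1⟩,⟨-1,1,-1,1⟩,⟨1,0,0,0⟩),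
    (⟨1,1,1,1⟩,⟨0,0,0,-1⟩,⟨1,0,0,0⟩), (⟨1,1,1,1⟩,⟨0,0,0,1⟩,⟨1,0,0,0⟩),
    (⟨0,0,0,-1⟩,⟨-1,-1,-1,-1⟩,⟨1,0,0,0⟩), (⟨0,0,0,-1⟩,⟨1,-1,1,-1⟩,⟨1,0,0,0⟩),
    (⟨1,-1,1,-1⟩,⟨0,0,0,-1⟩,⟨1,0,0,0⟩), (⟨-1,1,-1,1⟩,⟨0,0,2,-1⟩,⟨1,0,0,0⟩),
    (⟨0,0,0,1⟩,⟨-1,-1,-1,-1⟩,⟨1,0,0,0⟩), (⟨-1,-1,-1,-1⟩,⟨0,0,0,1⟩,⟨1,0,0,0⟩)]

def jA6 : List (List ℕ) := [
  [
    0, 1, 2, 7, 4, 6, 5, 3, 11, 9, 16, 8, 13, 12, 19, 26, 10, 29, 28, 14, 25, 23, 37, 21, 36, 20, 15,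
    33, 18, 17, 31, 30, 42, 27, 41, 40, 24, 22, 44, 43, 35, 34, 32, 39, 38],
  [
    0, 1, 2, 6, 9, 7, 3, 5, 12, 4, 16, 13, 8, 11, 23, 27, 10, 17, 32, 21, 34, 19, 38, 14, 40, 41, 33,
    15, 42, 29, 43, 39, 18, 26, 20, 36, 35, 44, 22, 31, 24, 25, 28, 30, 37],
  [
    0, 2, 1, 3, 4, 6, 5, 7, 14, 9, 17, 19, 21, 23, 8, 25, 29, 10, 31, 11, 26, 12, 36, 13, 37, 15, 20,
    34, 30, 16, 28, 18, 43, 41, 27, 44, 22, 24, 40, 42, 38, 33, 39, 32, 35],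
  [
    1, 0, 2, 8, 10, 11, 12, 13, 3, 16, 4, 5, 6, 7, 14, 28, 9, 17, 33, 21, 35, 19, 39, 23, 25, 24, 32,
    42, 15, 29, 37, 38, 26, 18, 36, 20, 34, 30, 31, 22, 41, 40, 27, 44, 43],
  [
    4, 5, 6, 3, 0, 1, 2, 7, 15, 9, 18, 20, 22, 24, 25, 8, 30, 31, 10, 26, 11, 36, 12, 37, 13, 14, 19,
    38, 29, 28, 16, 17, 43, 35, 40, 33, 21, 23, 27, 39, 34, 44, 42, 32, 41]]

def dA6 : List (List (Fin 6)) := [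
    [1,0,3,2,4,5], [3,2,1,0,4,5], [2,3,0,1,4,5], [0,1,4,5,2,3], [1,0,2,3,5,4], [5,4,2,3,1,0],
    [4,5,2,3,0,1], [0,1,5,4,3,2], [0,4,5,3,1,2], [0,1,3,2,5,4], [3,1,2,0,5,4], [4,1,2,5,0,3],
    [5,1,2,4,3,0], [0,5,4,3,2,1], [0,5,2,4,3,1], [0,2,1,4,3,5], [0,2,1,3,5,4], [2,1,0,3,5,4],
    [5,1,3,2,4,0], [5,1,4,3,2,0], [2,1,0,5,4,3], [4,1,5,3,0,2], [3,1,5,0,4,2], [0,4,2,5,1,3],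
    [0,3,4,1,2,5], [0,3,5,1,4,2], [3,1,4,0,2,5], [3,4,2,0,1,5], [0,5,3,2,4,1], [0,3,2,1,5,4],
    [0,4,3,2,1,5], [4,1,3,2,0,5], [1,0,5,3,4,2], [4,2,1,3,0,5], [2,5,0,3,4,1], [2,4,0,3,1,5],
    [2,1,0,4,3,5], [0,2,1,5,4,3], [5,2,1,3,4,0], [1,0,4,3,2,5], [4,3,2,1,0,5], [5,3,2,1,4,0],
    [1,0,2,5,4,3], [1,0,2,4,3,5], [3,5,2,0,4,1]]

def vA7 : List V3 := [
    (⟨1,0,0,0⟩,⟨0,0,0,0⟩,⟨0,0,0,0⟩), (⟨0,0,0,0⟩,⟨1,0,0,0⟩,⟨0,0,0,0⟩), (⟨0,0,0,0⟩,⟨0,0,0,0⟩,⟨1,0,0,0⟩),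
    (⟨3,0,1,0⟩,⟨1,0,0,0⟩,⟨1,0,0,0⟩), (⟨0,0,0,0⟩,⟨1,0,0,0⟩,⟨1,0,0,0⟩), (⟨3,0,1,0⟩,⟨4,0,0,0⟩,⟨1,0,0,0⟩),
    (⟨2,0,4,0⟩,⟨4,0,0,0⟩,⟨1,0,0,0⟩), (⟨2,0,4,0⟩,⟨1,0,0,0⟩,⟨1,0,0,0⟩), (⟨1,0,0,0⟩,⟨3,0,1,0⟩,⟨1,0,0,0⟩),
    (⟨4,0,2,0⟩,⟨4,0,4,0⟩,⟨1,0,0,0⟩), (⟨0,0,0,0⟩,⟨4,0,0,0⟩,⟨1,0,0,0⟩), (⟨1,0,0,0⟩,⟨0,0,0,0⟩,⟨1,0,0,0⟩),
    (⟨0,0,0,0⟩,⟨4,0,4,0⟩,⟨1,0,0,0⟩), (⟨4,0,0,0⟩,⟨3,0,1,0⟩,⟨1,0,0,0⟩), (⟨4,0,2,0⟩,⟨1,0,1,0⟩,⟨1,0,0,0⟩),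
    (⟨4,0,0,0⟩,⟨2,0,4,0⟩,⟨1,0,0,0⟩), (⟨1,0,3,0⟩,⟨1,0,1,0⟩,⟨1,0,0,0⟩), (⟨1,0,0,0⟩,⟨2,0,4,0⟩,⟨1,0,0,0⟩),
    (⟨1,0,3,0⟩,⟨4,0,4,0⟩,⟨1,0,0,0⟩), (⟨1,0,2,0⟩,⟨1,0,2,0⟩,⟨1,0,0,0⟩), (⟨4,0,4,0⟩,⟨0,0,2,0⟩,⟨1,0,0,0⟩),
    (⟨0,0,1,0⟩,⟨3,0,2,0⟩,⟨1,0,0,0⟩), (⟨3,0,2,0⟩,⟨0,0,1,0⟩,⟨1,0,0,0⟩), (⟨4,0,4,0⟩,⟨4,0,2,0⟩,⟨1,0,0,0⟩),
    (⟨0,0,4,0⟩,⟨1,0,1,0⟩,⟨1,0,0,0⟩), (⟨4,0,0,0⟩,⟨0,0,0,0⟩,⟨1,0,0,0⟩), (⟨0,0,0,0⟩,⟨1,0,1,0⟩,⟨1,0,0,0⟩),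
    (⟨1,0,0,0⟩,⟨1,0,0,0⟩,⟨0,0,0,0⟩), (⟨0,0,3,0⟩,⟨4,0,4,0⟩,⟨1,0,0,0⟩), (⟨0,0,1,0⟩,⟨0,0,0,0⟩,⟨1,0,0,0⟩),
    (⟨0,0,0,0⟩,⟨0,0,1,0⟩,⟨1,0,0,0⟩), (⟨4,0,4,0⟩,⟨0,0,0,0⟩,⟨1,0,0,0⟩), (⟨2,0,0,0⟩,⟨4,0,0,0⟩,⟨1,0,0,0⟩),
    (⟨4,0,3,0⟩,⟨1,0,2,0⟩,⟨1,0,0,0⟩), (⟨0,0,2,0⟩,⟨2,0,2,0⟩,⟨1,0,0,0⟩), (⟨0,0,4,0⟩,⟨3,0,2,0⟩,⟨1,0,0,0⟩),
    (⟨2,0,3,0⟩,⟨0,0,4,0⟩,⟨1,0,0,0⟩), (⟨1,0,1,0⟩,⟨4,0,2,0⟩,⟨1,0,0,0⟩), (⟨3,0,0,0⟩,⟨2,0,0,0⟩,⟨1,0,0,0⟩),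
    (⟨3,0,2,0⟩,⟨0,0,4,0⟩,⟨1,0,0,0⟩), (⟨1,0,2,0⟩,⟨4,0,3,0⟩,⟨1,0,0,0⟩), (⟨0,0,4,0⟩,⟨3,0,3,0⟩,⟨1,0,0,0⟩),
    (⟨0,0,4,0⟩,⟨2,0,3,0⟩,⟨1,0,0,0⟩), (⟨1,0,1,0⟩,⟨1,0,3,0⟩,⟨1,0,0,0⟩), (⟨1,0,0,0⟩,⟨3,0,0,0⟩,⟨1,0,0,0⟩),
    (⟨4,0,3,0⟩,⟨4,0,3,0⟩,⟨1,0,0,0⟩), (⟨2,0,2,0⟩,⟨0,0,3,0⟩,⟨1,0,0,0⟩), (⟨0,0,1,0⟩,⟨2,0,3,0⟩,⟨1,0,0,0⟩),
    (⟨2,0,3,0⟩,⟨0,0,1,0⟩,⟨1,0,0,0⟩), (⟨4,0,4,0⟩,⟨1,0,3,0⟩,⟨1,0,0,0⟩), (⟨1,0,1,0⟩,⟨0,0,4,0⟩,⟨1,0,0,0⟩),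
    (⟨0,0,3,0⟩,⟨2,0,2,0⟩,⟨1,0,0,0⟩), (⟨3,0,4,0⟩,⟨1,0,4,0⟩,⟨1,0,0,0⟩), (⟨1,0,1,0⟩,⟨0,0,2,0⟩,⟨1,0,0,0⟩),
    (⟨1,0,1,0⟩,⟨0,0,3,0⟩,⟨1,0,0,0⟩), (⟨0,0,2,0⟩,⟨4,0,4,0⟩,⟨1,0,0,0⟩), (⟨1,0,0,0⟩,⟨2,0,0,0⟩,⟨1,0,0,0⟩),
    (⟨1,0,4,0⟩,⟨3,0,4,0⟩,⟨1,0,0,0⟩), (⟨4,0,4,0⟩,⟨0,0,4,0⟩,⟨1,0,0,0⟩), (⟨1,0,1,0⟩,⟨1,0,0,0⟩,⟨0,0,0,0⟩),
    (⟨0,0,1,0⟩,⟨1,0,1,0⟩,⟨1,0,0,0⟩), (⟨0,0,1,0⟩,⟨4,0,4,0⟩,⟨1,0,0,0⟩), (⟨4,0,0,0⟩,⟨1,0,0,0⟩,⟨0,0,0,0⟩),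
    (⟨3,0,3,0⟩,⟨0,0,1,0⟩,⟨1,0,0,0⟩), (⟨0,0,4,0⟩,⟨0,0,0,0⟩,⟨1,0,0,0⟩), (⟨0,0,0,0⟩,⟨0,0,4,0⟩,⟨1,0,0,0⟩),
    (⟨1,0,1,0⟩,⟨0,0,0,0⟩,⟨1,0,0,0⟩), (⟨4,0,0,0⟩,⟨4,0,0,0⟩,⟨1,0,0,0⟩), (⟨2,0,2,0⟩,⟨0,0,1,0⟩,⟨1,0,0,0⟩),
    (⟨4,0,4,0⟩,⟨1,0,0,0⟩,⟨0,0,0,0⟩), (⟨0,0,2,0⟩,⟨1,0,1,0⟩,⟨1,0,0,0⟩), (⟨4,0,4,0⟩,⟨0,0,3,0⟩,⟨1,0,0,0⟩),
    (⟨0,0,1,0⟩,⟨1,0,0,0⟩,⟨0,0,0,0⟩), (⟨1,0,4,0⟩,⟨2,0,1,0⟩,⟨1,0,0,0⟩), (⟨3,0,0,0⟩,⟨4,0,0,0⟩,⟨1,0,0,0⟩),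
    (⟨3,0,0,0⟩,⟨1,0,0,0⟩,⟨1,0,0,0⟩), (⟨4,0,0,0⟩,⟨2,0,0,0⟩,⟨1,0,0,0⟩), (⟨2,0,1,0⟩,⟨1,0,4,0⟩,⟨1,0,0,0⟩),
    (⟨0,0,3,0⟩,⟨3,0,3,0⟩,⟨1,0,0,0⟩), (⟨2,0,2,0⟩,⟨0,0,2,0⟩,⟨1,0,0,0⟩), (⟨3,0,3,0⟩,⟨0,0,3,0⟩,⟨1,0,0,0⟩),
    (⟨4,0,1,0⟩,⟨3,0,4,0⟩,⟨1,0,0,0⟩), (⟨4,0,0,0⟩,⟨3,0,0,0⟩,⟨1,0,0,0⟩), (⟨2,0,0,0⟩,⟨2,0,0,0⟩,⟨1,0,0,0⟩),
    (⟨2,0,0,0⟩,⟨3,0,0,0⟩,⟨1,0,0,0⟩), (⟨3,0,4,0⟩,⟨4,0,1,0⟩,⟨1,0,0,0⟩), (⟨0,0,1,0⟩,⟨3,0,3,0⟩,⟨1,0,0,0⟩),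
    (⟨0,0,1,0⟩,⟨2,0,2,0⟩,⟨1,0,0,0⟩), (⟨3,0,3,0⟩,⟨0,0,4,0⟩,⟨1,0,0,0⟩), (⟨2,0,1,0⟩,⟨4,0,1,0⟩,⟨1,0,0,0⟩),
    (⟨3,0,3,0⟩,⟨0,0,2,0⟩,⟨1,0,0,0⟩), (⟨3,0,0,0⟩,⟨3,0,0,0⟩,⟨1,0,0,0⟩), (⟨4,0,1,0⟩,⟨2,0,1,0⟩,⟨1,0,0,0⟩),
    (⟨4,0,4,0⟩,⟨0,0,1,0⟩,⟨1,0,0,0⟩), (⟨0,0,2,0⟩,⟨3,0,3,0⟩,⟨1,0,0,0⟩), (⟨0,0,3,0⟩,⟨1,0,1,0⟩,⟨1,0,0,0⟩),
    (⟨2,0,0,0⟩,⟨1,0,0,0⟩,⟨1,0,0,0⟩), (⟨1,0,1,0⟩,⟨0,0,1,0⟩,⟨1,0,0,0⟩), (⟨0,0,4,0⟩,⟨4,0,4,0⟩,⟨1,0,0,0⟩),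
    (⟨1,0,0,0⟩,⟨4,0,0,0⟩,⟨1,0,0,0⟩), (⟨0,0,4,0⟩,⟨1,0,0,0⟩,⟨0,0,0,0⟩), (⟨2,0,2,0⟩,⟨0,0,4,0⟩,⟨1,0,0,0⟩),
    (⟨1,0,0,0⟩,⟨1,0,0,0⟩,⟨1,0,0,0⟩), (⟨0,0,4,0⟩,⟨2,0,2,0⟩,⟨1,0,0,0⟩), (⟨4,0,0,0⟩,⟨1,0,0,0⟩,⟨1,0,0,0⟩)]

def jA7 : List (List ℕ) := [
  [
    0, 1, 2, 7, 4, 6, 5, 3, 13, 18, 10, 25, 12, 8, 16, 17, 14, 15, 9, 33, 53, 35, 48, 37, 60, 11, 26,
    62, 55, 64, 30, 66, 74, 19, 51, 21, 39, 23, 83, 36, 45, 86, 47, 49, 82, 40, 80, 42, 22, 43, 58, 34,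
    77, 20, 71, 28, 76, 81, 50, 69, 24, 98, 27, 68, 29, 65, 31, 99, 63, 59, 95, 54, 100, 92, 32, 96,
    56, 52, 94, 90, 46, 57, 44, 38, 91, 89, 41, 103, 101, 85, 79, 84, 73, 97, 78, 70, 75, 93, 61, 67,
    72, 88, 104, 87, 102],
  [
    0, 1, 2, 6, 10, 7, 3, 5, 15, 16, 4, 25, 26, 17, 18, 8, 9, 13, 14, 45, 54, 42, 36, 43, 61, 11, 12,
    27, 70, 64, 65, 66, 75, 40, 78, 47, 22, 49, 84, 48, 33, 87, 21, 23, 76, 19, 90, 35, 39, 37, 93, 94,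
    89, 71, 20, 95, 82, 92, 97, 59, 98, 24, 62, 101, 29, 30, 31, 102, 88, 69, 28, 53, 72, 81, 96, 32,
    44, 85, 34, 80, 79, 73, 56, 91, 38, 77, 103, 41, 68, 52, 46, 83, 57, 50, 51, 55, 74, 58, 60, 104,
    100, 63, 67, 86, 99],
  [
    0, 2, 1, 3, 4, 6, 5, 7, 19, 22, 10, 27, 30, 33, 36, 40, 39, 45, 48, 8, 51, 57, 9, 52, 58, 62, 65,
    11, 68, 72, 12, 69, 74, 13, 53, 81, 14, 77, 82, 16, 15, 80, 73, 85, 83, 17, 86, 92, 18, 89, 60, 20,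
    23, 34, 78, 63, 91, 21, 24, 66, 50, 93, 25, 55, 100, 26, 59, 99, 28, 31, 101, 94, 29, 42, 32, 75,
    84, 37, 54, 103, 41, 35, 38, 44, 76, 43, 46, 90, 95, 49, 87, 56, 47, 61, 71, 88, 96, 98, 97, 67,
    64, 70, 102, 79, 104],
  [
    1, 0, 2, 8, 11, 13, 15, 17, 3, 23, 25, 4, 31, 5, 37, 6, 43, 7, 49, 19, 55, 22, 21, 9, 50, 10, 66,
    27, 71, 30, 29, 12, 76, 40, 79, 39, 42, 14, 84, 35, 33, 88, 36, 16, 75, 45, 51, 48, 47, 18, 24, 46,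
    57, 70, 95, 20, 96, 52, 98, 100, 97, 93, 62, 86, 65, 64, 26, 67, 87, 72, 53, 28, 69, 77, 82, 44,
    32, 73, 80, 34, 78, 85, 74, 83, 38, 81, 63, 68, 41, 92, 94, 91, 89, 61, 90, 54, 56, 60, 58, 104,
    59, 103, 102, 101, 99],
  [
    4, 5, 6, 3, 0, 1, 2, 7, 20, 24, 10, 28, 32, 34, 38, 41, 44, 46, 50, 51, 8, 21, 58, 59, 9, 63, 67,
    68, 11, 73, 74, 37, 12, 53, 13, 81, 82, 31, 14, 83, 80, 15, 72, 43, 16, 86, 17, 64, 60, 89, 18, 19,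
    66, 33, 87, 62, 97, 57, 22, 23, 48, 76, 55, 25, 47, 99, 52, 26, 27, 77, 101, 79, 42, 29, 30, 102,
    61, 69, 90, 71, 40, 35, 36, 39, 93, 85, 45, 54, 88, 49, 78, 98, 100, 84, 103, 95, 104, 56, 91, 65,
    92, 70, 75, 94, 96],
  [
    0, 1, 2, 9, 12, 14, 16, 18, 21, 22, 26, 29, 30, 35, 39, 42, 36, 47, 48, 52, 56, 23, 3, 8, 50, 64,
    65, 69, 68, 31, 4, 11, 70, 77, 80, 37, 6, 13, 78, 5, 85, 53, 43, 15, 87, 89, 91, 49, 7, 17, 67, 46,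
    57, 76, 82, 63, 86, 19, 99, 100, 58, 93, 59, 96, 66, 10, 25, 24, 75, 72, 88, 44, 27, 40, 95, 28,
    41, 81, 79, 38, 84, 33, 103, 94, 34, 73, 20, 71, 32, 92, 83, 51, 45, 102, 90, 101, 55, 104, 97, 60,
    62, 74, 61, 54, 98]]

def dA7 : List (List (Fin 7)) := [
    [1,0,3,2,4,5,6], [3,2,1,0,4,5,6], [2,3,0,1,4,5,6], [0,1,6,5,4,3,2], [1,0,2,3,4,6,5],
    [5,6,2,3,4,0,1], [6,5,2,3,4,1,0], [0,1,5,6,4,2,3], [0,6,5,3,4,2,1], [0,1,4,6,2,5,3],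
    [0,1,3,2,4,6,5], [3,1,2,0,4,6,5], [1,0,2,3,6,5,4], [6,1,2,5,4,3,0], [6,4,2,3,1,5,0],
    [5,1,2,6,4,0,3], [4,6,2,3,0,5,1], [0,5,6,3,4,1,2], [0,1,6,4,3,5,2], [0,5,2,6,4,1,3],
    [0,2,1,6,4,5,3], [0,4,6,3,1,5,2], [0,1,5,4,3,2,6], [0,5,4,3,2,1,6], [0,1,5,3,6,2,4],
    [0,2,1,3,4,6,5], [0,1,3,2,6,5,4], [2,1,0,3,4,6,5], [5,1,3,2,4,0,6], [3,1,2,0,6,5,4],
    [1,0,2,3,5,4,6], [3,1,2,0,5,4,6], [1,0,4,3,2,5,6], [5,1,6,3,4,0,2], [2,1,0,5,4,3,6],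
    [4,1,2,6,0,5,3], [5,4,2,3,1,0,6], [5,1,2,4,3,0,6], [2,4,0,3,1,5,6], [4,5,2,3,0,1,6],
    [6,1,5,3,4,2,0], [3,1,5,0,4,2,6], [6,1,2,4,3,5,0], [4,1,2,5,0,3,6], [4,2,1,3,0,5,6],
    [0,6,2,5,4,3,1], [0,3,6,1,4,5,2], [0,6,4,3,2,5,1], [0,1,4,5,2,3,6], [0,4,5,3,1,2,6],
    [0,1,6,3,5,4,2], [0,3,5,1,4,2,6], [0,6,2,4,3,5,1], [3,1,6,0,4,5,2], [3,6,2,0,4,5,1],
    [0,5,3,2,4,1,6], [0,2,1,4,3,5,6], [0,4,2,5,1,3,6], [0,1,2,6,5,4,3], [0,3,2,1,6,5,4],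
    [0,1,2,5,6,3,4], [5,1,2,3,6,0,4], [0,3,2,1,4,6,5], [0,6,3,2,4,5,1], [0,2,1,3,6,5,4],
    [0,1,3,2,5,4,6], [0,2,1,3,5,4,6], [0,1,4,3,2,6,5], [6,1,3,2,4,5,0], [2,1,0,3,6,5,4],
    [1,0,5,3,4,2,6], [6,2,1,3,4,5,0], [2,1,0,3,5,4,6], [5,1,4,3,2,0,6], [1,0,2,4,3,5,6],
    [4,1,3,2,0,5,6], [3,1,4,0,2,5,6], [6,1,4,3,2,5,0], [2,5,0,3,4,1,6], [2,6,0,3,4,5,1],
    [2,1,0,6,4,5,3], [4,1,5,3,0,2,6], [3,4,2,0,1,5,6], [4,3,2,1,0,5,6], [2,1,0,4,3,5,6],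
    [4,1,6,3,0,5,2], [0,2,1,5,4,3,6], [5,2,1,3,4,0,6], [1,0,6,3,4,5,2], [0,4,2,6,1,5,3],
    [6,3,2,1,4,5,0], [0,3,4,1,2,5,6], [0,5,2,4,3,1,6], [6,1,2,3,5,4,0], [5,3,2,1,4,0,6],
    [1,0,2,5,4,3,6], [0,4,3,2,1,5,6], [0,6,2,3,5,4,1], [0,5,2,3,6,1,4], [0,1,2,4,3,6,5],
    [0,3,2,1,5,4,6], [1,0,2,6,4,5,3], [4,1,2,3,0,6,5], [3,5,2,0,4,1,6], [0,4,2,3,1,6,5]]

def vL32 : List V3 := [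
    (⟨1,0,0,0⟩,⟨0,0,0,0⟩,⟨0,0,0,0⟩), (⟨0,0,0,0⟩,⟨1,0,0,0⟩,⟨0,0,0,0⟩), (⟨0,0,0,0⟩,⟨0,0,0,0⟩,⟨1,0,0,0⟩),
    (⟨0,-1,0,0⟩,⟨1,0,0,0⟩,⟨1,0,0,0⟩), (⟨0,0,0,0⟩,⟨1,0,0,0⟩,⟨1,0,0,0⟩),
    (⟨0,-1,0,0⟩,⟨-1,0,0,0⟩,⟨1,0,0,0⟩), (⟨0,1,0,0⟩,⟨-1,0,0,0⟩,⟨1,0,0,0⟩),
    (⟨0,1,0,0⟩,⟨1,0,0,0⟩,⟨1,0,0,0⟩), (⟨1,0,0,0⟩,⟨0,-1,0,0⟩,⟨1,0,0,0⟩),
    (⟨0,0,0,0⟩,⟨-1,0,0,0⟩,⟨1,0,0,0⟩), (⟨1,0,0,0⟩,⟨0,0,0,0⟩,⟨1,0,0,0⟩),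
    (⟨-1,0,0,0⟩,⟨0,-1,0,0⟩,⟨1,0,0,0⟩), (⟨-1,0,0,0⟩,⟨0,1,0,0⟩,⟨1,0,0,0⟩),
    (⟨1,0,0,0⟩,⟨0,1,0,0⟩,⟨1,0,0,0⟩), (⟨1,0,0,0⟩,⟨1,0,0,0⟩,⟨0,-1,0,0⟩),
    (⟨-1,0,0,0⟩,⟨1,0,0,0⟩,⟨0,0,0,0⟩), (⟨-1,0,0,0⟩,⟨0,0,0,0⟩,⟨1,0,0,0⟩),
    (⟨1,0,0,0⟩,⟨1,0,0,0⟩,⟨0,0,0,0⟩), (⟨-1,0,0,0⟩,⟨1,0,0,0⟩,⟨0,-1,0,0⟩),
    (⟨-1,0,0,0⟩,⟨1,0,0,0⟩,⟨0,1,0,0⟩), (⟨1,0,0,0⟩,⟨1,0,0,0⟩,⟨0,1,0,0⟩)]

def jL32 : List (List ℕ) := [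
  [
    0, 1, 2, 7, 4, 6, 5, 3, 11, 9, 16, 8, 13, 12, 18, 17, 10, 15, 14, 20, 19],
  [
    0, 1, 2, 6, 9, 7, 3, 5, 12, 4, 16, 13, 8, 11, 20, 15, 10, 17, 19, 18, 14],
  [
    0, 2, 1, 3, 4, 6, 5, 7, 14, 9, 17, 18, 19, 20, 8, 16, 15, 10, 11, 12, 13],
  [
    1, 0, 2, 8, 10, 11, 12, 13, 3, 16, 4, 5, 6, 7, 14, 15, 9, 17, 19, 18, 20],
  [
    4, 5, 6, 3, 0, 1, 2, 7, 15, 9, 11, 10, 12, 20, 16, 8, 14, 18, 17, 19, 13]]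

def dL32 : List (List (ZMod 2)) := [
    [0,0,1,0,1,0,1,0,0], [1,0,0,1,1,1,0,0,1], [0,0,1,1,1,1,1,0,0], [1,0,0,1,0,1,1,1,0],
    [1,1,0,0,1,0,0,1,1], [1,0,0,0,1,0,0,1,1], [1,1,0,0,1,0,0,0,1], [0,1,1,1,0,1,0,0,1],
    [1,0,1,0,1,0,0,0,1], [0,1,1,0,1,0,1,1,0], [1,0,0,1,1,0,0,0,1], [1,0,0,0,1,0,1,0,1],
    [1,0,0,1,1,0,1,0,1], [1,0,1,0,1,1,0,0,1], [1,0,0,0,1,0,1,1,1], [0,1,0,1,0,0,1,1,1],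
    [1,0,0,0,1,1,0,0,1], [1,1,1,0,0,1,0,1,0], [1,1,1,0,1,0,0,0,1], [1,0,0,0,0,1,0,1,0],
    [0,1,0,1,0,0,0,0,1]]

def dL27 : List (List (ZMod 7)) := [
    [0,1,6,0], [3,5,5,4], [2,3,3,5], [1,5,1,6], [3,2,2,4], [3,4,1,4], [3,1,4,4], [1,1,5,6], [0,3,2,0],
    [2,4,4,5], [3,3,6,4], [0,2,3,0], [2,6,5,5], [2,5,6,5], [2,1,2,5], [1,2,6,6], [3,6,3,4], [1,6,2,6],
    [2,2,1,5], [1,4,3,6], [1,3,4,6]]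

theorem tabA6 : Tab ⟨1, 1, -1, -1, 0⟩ ⟨0, 1, 1, 0⟩ ⟨-1, 1, -1, 0⟩ vA6 jA6 45 5 := by
  unfold Tab; decide +kernel
theorem tabA7 : Tab ⟨0, 0, -1, -1, 5⟩ ⟨2, 0, 4, 0⟩ ⟨3, 0, 1, 0⟩ vA7 jA7 105 6 := by
  unfold Tab; decide +kernel
theorem tabL32 : Tab ⟨-1, -2, 0, 0, 0⟩ ⟨0, 1, 0, 0⟩ ⟨-1, -1, 0, 0⟩ vL32 jL32 21 5 := by
  unfold Tab; decide +kernel

def lb {X : Type} [Zero X] (D : List (List X)) (i a : ℕ) : X := (D.getD i []).getD a 0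

def RA {m : ℕ} [NeZero m] (D : List (List (Fin m))) (n : ℕ) : RelSys (alternatingGroup (Fin m)) (Fin n) where
  R π i j := ∀ a : Fin m, π.1 (lb D i a) = lb D j (π.1 a)
  one _ _ := rfl
  mul h h' a := by simp only [coe_mul, Perm.mul_apply, h a, h' _]

def sw2 {m : ℕ} (a b c d : Fin m) (h : a ≠ b := by decide) (h' : c ≠ d := by decide) :
    alternatingGroup (Fin m) := ⟨swap a b * swap c d, by simp [Perm.mem_alternatingGroup, h, h']⟩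

variable [Finite G] [IsAlgClosed K]

theorem N2.reps (h : N2 ρ t u w y r κ μ) {k m : Z4} (e1 : k.ev α β = κ) (e2 : m.ev α β = μ) (a : Fin 5) :
    Rep ρ (![t, u, w, y, r] a) ((gn k m a).ev α β) := by
  obtain ⟨a0, a1, a2, a3, a4, -⟩ := gn_ev (α := α) (β := β) k m
  fin_cases a
  exacts [h.t0.congr' a0, h.u0.congr' a1, h.w0.congr a2.symm, h.y0.congr a3.symm,
    h.r0.congr (by rw [← e1, ← e2]; exact a4.symm)]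

theorem Ex4.isoA6 (h : Ex4 ρ t u w y r κ μ) (c : Nat.card G = 360) :
    Nonempty (G ≃* alternatingGroup (Fin 6)) := by
  obtain ⟨h, -, -, gen, e⟩ := h
  have e := (e.resolve_left (by omega)).2.1
  have h2 := h.two; have km := h.km
  refine iso_of_tab (α := (1 + κ + μ) / 2) (β := (κ - μ - 1) / 2) tabA6 ⟨?_, ?_, by simp⟩ h.inj (RA dA6 45) _
    ![sw2 0 1 2 3, sw2 0 2 1 3, sw2 2 3 4 5, sw2 1 3 4 5, sw2 2 4 3 5] (h.reps ?_ ?_)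
    (by unfold RA; decide +kernel) (fun H a => gen H (a 0) (a 1) (a 2) (a 3) (a 4)) 0 1 2 3 rfl rfl rfl rfl
    ?_ (by unfold RA; decide +kernel) (by
      have := two_mul_nat_card_alternatingGroup (α := Fin 6)
      rw [Nat.card_perm, Nat.card_fin, show Nat.factorial 6 = 720 from rfl] at this; omega)
  all_goals simp [Z4.ev]
  any_goals field_simp
  · linear_combination e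
  · linear_combination e - 4 * km
  · ring
  · ring
  · exact fun k => mul_ne_zero h2 h.k0 (by linear_combination -k)

theorem Ex12.isoA7 (h : Ex12 ρ t u w y r z ω) : Nonempty (G ≃* alternatingGroup (Fin 7)) := by
  obtain ⟨h, hω, h5, hz, gen, c⟩ := h
  refine iso_of_tab (α := 0) (β := ω) tabA7 ⟨by simp, by simp; linear_combination hω, by simpa using h5⟩
    h.inj (RA dA7 105) ![t, u, w, y, r, z]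
    ![sw2 0 1 2 3, sw2 0 2 1 3, sw2 2 3 5 6, sw2 1 3 5 6, sw2 2 6 3 5, sw2 4 5 5 6] (fun a => ?_)
    (by unfold RA; decide +kernel) (fun H a => gen H (a 0) (a 1) (a 2) (a 3) (a 4) (a 5)) 0 1 2 3
    rfl rfl rfl rfl ?_ (by unfold RA; decide +kernel) (by
      have := two_mul_nat_card_alternatingGroup (α := Fin 7)
      rw [Nat.card_perm, Nat.card_fin, show Nat.factorial 7 = 5040 from rfl] at this; omega)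
  · have := h.reps (α := 0) (β := ω) (k := ⟨2, 0, 4, 0⟩) (m := ⟨3, 0, 1, 0⟩) (by simp [Z4.ev]; ring)
      (by simp [Z4.ev]; ring)
    fin_cases a
    exacts [this 0, this 1, this 2, this 3, this 4, (hz.congr (d' := ![1, ω, -1 - ω]) fun i => by
      fin_cases i <;> simp; linear_combination hω).congr' (gn_ev _ _).2.2.2.2.2]
  · simpa [Z4.ev, add_comm] using h.m0

def mt {X : Type} [Zero X] (D : List (List X)) (m i : ℕ) : Matrix (Fin m) (Fin m) X :=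
  of fun a b => lb D i (m * a + b)

def RS3 : RelSys SL(3, ZMod 2) (Fin 21) where
  R π i j := π.1 * mt dL32 3 i = mt dL32 3 j * π.1
  one _ := by simp
  mul {x y _ _ _} h h' := by
    change y.1 * x.1 * _ = _ * (y.1 * x.1); rw [mul_assoc, h, ← mul_assoc, h', mul_assoc]

theorem Ex4.ok168 (h : Ex4 ρ t u w y r κ μ) (c : Nat.card G = 168) : Par.Ok ⟨-1, -2, 0, 0, 0⟩ κ 0 ∧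
    (⟨0, 1, 0, 0⟩ : Z4).ev κ 0 = κ ∧ (⟨-1, -1, 0, 0⟩ : Z4).ev κ 0 = μ ∧ (⟨0, -1, 0, 0⟩ : Z4).ev κ 0 ≠ 0 := by
  have e := (h.2.2.2.2.resolve_right (by omega)).2
  exact ⟨⟨by simp; linear_combination κ * e - h.1.km, by simp, by simp⟩, by simp [Z4.ev],
    by simp [Z4.ev]; linear_combination -e, by simpa [Z4.ev] using h.1.k0⟩

theorem Ex4.isoL32 (hG : SN G) (h : Ex4 ρ t u w y r κ μ) (c : Nat.card G = 168) :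
    Nonempty (G ≃* PSL(3, ZMod 2)) := by
  obtain ⟨a1, a2, a3, a4⟩ := h.ok168 c
  obtain ⟨e⟩ := iso_of_tab tabL32 a1 h.1.inj RS3 _
    ![⟨!![0, 0, 1; 0, 1, 0; 1, 0, 0], by decide⟩, ⟨!![0, 0, 1; 1, 1, 1; 1, 0, 0], by decide⟩,
      ⟨!![0, 1, 1; 0, 1, 0; 1, 1, 0], by decide⟩, ⟨!![0, 1, 0; 1, 0, 0; 1, 1, 1], by decide⟩,
      ⟨!![1, 0, 0; 1, 0, 1; 1, 1, 0], by decide⟩] (h.1.reps a2 a3) (by unfold RS3; decide +kernel)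
    (fun H a => h.2.2.2.1 H (a 0) (a 1) (a 2) (a 3) (a 4)) 0 1 2 3 rfl rfl rfl rfl a4
    (by unfold RS3; decide +kernel) (by
      have := Nat.card_le_card_of_injective _ (SpecialLinearGroup.toGL_injective (n := Fin 3) (R := ZMod 2))
      rw [card_GL_field] at this
      simpa [c, Fin.prod_univ_three] using this)
  have : center SL(3, ZMod 2) = ⊥ := (eq_bot_iff_forall _).2 fun a ha => e.symm.injective (by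
    rw [map_one]
    exact hG.center_eq fun g => e.injective (by simp [mem_center_iff.1 ha]))
  exact ⟨e.trans ((QuotientGroup.quotientMulEquivOfEq this).trans QuotientGroup.quotientBot).symm⟩

instance fact7 : Fact (Nat.Prime 7) := ⟨by decide⟩

def RS2 : RelSys PSL(2, ZMod 7) (Fin 21) where
  R π i j := ∃ B : SL(2, ZMod 7), (B : PSL(2, ZMod 7)) = π ∧
    (B.1 * mt dL27 2 i = mt dL27 2 j * B.1 ∨ B.1 * mt dL27 2 i = -(mt dL27 2 j * B.1))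
  one _ := ⟨1, rfl, by simp⟩
  mul := fun ⟨B, a, h⟩ ⟨C, b, h'⟩ => ⟨C * B, by rw [← a, ← b]; rfl, by
    rw [show (C * B).1 = C.1 * B.1 from rfl]
    rcases h with h | h <;> rcases h' with h' | h' <;>
      simp [mul_assoc, h] <;> simp [← mul_assoc, h']⟩

theorem Ex4.isoL27 (h : Ex4 ρ t u w y r κ μ) (c : Nat.card G = 168) : Nonempty (G ≃* PSL(2, ZMod 7)) := by
  obtain ⟨a1, a2, a3, a4⟩ := h.ok168 c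
  have : Finite PSL(2, ZMod 7) := inferInstanceAs (Finite (_ ⧸ _))
  let π : Fin 5 → SL(2, ZMod 7) := ![⟨!![0, 1; 6, 0], by decide⟩, ⟨!![2, 3; 3, 5], by decide⟩,
    ⟨!![2, 4; 4, 5], by decide⟩, ⟨!![1, 2; 6, 6], by decide⟩, ⟨!![1, 5; 1, 6], by decide⟩]
  refine iso_of_tab tabL32 a1 h.1.inj RS2 _ (fun a => π a) (h.1.reps a2 a3) (fun a i => ⟨π a, rfl, ?_⟩)
    (fun H a => h.2.2.2.1 H (a 0) (a 1) (a 2) (a 3) (a 4)) 0 1 2 3 rfl rfl rfl rfl a4 ?_ ?_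
  · revert a i; decide +kernel
  · rintro i hi j ⟨B, a, b⟩
    obtain ⟨s, s2, e⟩ := Matrix.SpecialLinearGroup.mem_center_iff.1 ((QuotientGroup.eq_one_iff B).1 a)
    rw [← e] at b
    revert i j s2; clear e a; revert s; decide +kernel
  · have := H3.card_Lsub (F := ZMod 7) (by decide)
    rw [← Nat.card_congr (H3.pslEquiv (ZMod 7)).toEquiv, Nat.card_zmod] at this
    omega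

end Cfsg.Agent.H8.M3
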